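import Groth.Agent.Sga67.LocBasisOps
import Groth.Agent.Dcoh.Spread
import Mathlib.LinearAlgebra.InvariantBasisNumber

/-!
# Ranks of finite locally free modules in short exact sequences

* `isFinLocFreeOfRank_iff`: rank `n` in terms of local bases;
* `card_eq`: two local bases near a common point have the same cardinality; `rank_unique`;
* `isFinLocFreeOfRank_mid`, `isFinLocFreeOfRank_left`: ranks in short exact sequences;
* `isFinLocFree_left`: the kernel of an epimorphism of finite locally free modules is finite locally free;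
* `isFinLocFreeOfRank_extPow`, `isFinLocFreeOfRank_tensor`.
-/

set_option autoImplicit false
universe u

open CategoryTheory CategoryTheory.Limits AlgebraicGeometry Opposite TopologicalSpace
open scoped TensorProduct

namespace Groth.Agent.Krr.H487.KerRank

open Groth.Agent.Sga67.Sec Groth.Agent.Sga67.LocBasis

variable {X : Scheme.{u}}

theorem isFinLocFreeOfRank_iff {n : ℕ} (M : X.Modules) : FlatMod.IsFinLocFreeOfRank n M ↔
    ∀ x : X, ∃ U : X.Opens, x ∈ U ∧ ∃ b : Fin n → Sec M U, IsLocBasis b := by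
  simp only [FlatMod.IsFinLocFreeOfRank, nonempty_restrict_iso_iff]

theorem isFinLocFree_of_rank {n : ℕ} {M : X.Modules} (h : FlatMod.IsFinLocFreeOfRank n M) :
    FlatMod.IsFinLocFree M := fun x => by
  obtain ⟨U, hx, e⟩ := h x
  exact ⟨U, n, hx, e⟩

/-- Two local bases near a common point have the same cardinality. -/
theorem card_eq {M : X.Modules} {V W : X.Opens} {κ κ' : Type*} [Fintype κ] [Fintype κ']
    {e : κ → Sec M V} {e' : κ' → Sec M W} (he : IsLocBasis e) (he' : IsLocBasis e') (y : X)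
    (hV : y ∈ V) (hW : y ∈ W) : Fintype.card κ = Fintype.card κ' := by
  have : Nonempty (V ⊓ W : X.Opens) := ⟨⟨y, hV, hW⟩⟩
  have : Nontrivial Γ(X, V ⊓ W) := inferInstance
  exact Fintype.card_congr (Module.Basis.indexEquiv (he.basis (inf_le_left : V ⊓ W ≤ V))
    (he'.basis (inf_le_right : V ⊓ W ≤ W)))

/-- A module with a local basis indexed by a type of cardinality `n` near every point. -/
theorem isFinLocFreeOfRank_of_exists {n : ℕ} {M : X.Modules} (H : ∀ x : X, ∃ (U : X.Opens)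
    (κ : Type) (_ : Fintype κ) (b : κ → Sec M U), x ∈ U ∧ Fintype.card κ = n ∧ IsLocBasis b) :
    FlatMod.IsFinLocFreeOfRank n M := by
  rw [isFinLocFreeOfRank_iff]
  intro x
  obtain ⟨U, κ, _, b, hx, hn, hb⟩ := H x
  exact ⟨U, hx, _, hb.reindex (Fintype.equivFinOfCardEq hn).symm⟩

/-- A finite locally free module all of whose local bases have `n` elements. -/
theorem isFinLocFreeOfRank_of_forall {n : ℕ} {M : X.Modules} (hM : FlatMod.IsFinLocFree M)
    (H : ∀ (x : X) (U : X.Opens) (m : ℕ) (b : Fin m → Sec M U), x ∈ U → IsLocBasis b → m = n) :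
    FlatMod.IsFinLocFreeOfRank n M := by
  rw [isFinLocFreeOfRank_iff]
  intro x
  obtain ⟨U, m, hx, b, hb⟩ := (isFinLocFree_iff M).mp hM x
  obtain rfl := H x U m b hx hb
  exact ⟨U, hx, b, hb⟩

/-- The rank at a point is unique. -/
theorem rank_unique_at {m n : ℕ} {M : X.Modules} (h : FlatMod.IsFinLocFreeOfRank m M)
    (h' : FlatMod.IsFinLocFreeOfRank n M) (x : X) : m = n := by
  rw [isFinLocFreeOfRank_iff] at h h'
  obtain ⟨U, hU, b, hb⟩ := h x
  obtain ⟨V, hV, c, hc⟩ := h' x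
  simpa using card_eq hb hc x hU hV

theorem rank_unique [hX : Nonempty X] {m n : ℕ} {M : X.Modules}
    (h : FlatMod.IsFinLocFreeOfRank m M) (h' : FlatMod.IsFinLocFreeOfRank n M) : m = n :=
  rank_unique_at h h' hX.some

/-- The middle term of a short exact sequence: local bases add up. -/
theorem exists_basis_mid {S : ShortComplex X.Modules} (hS : S.ShortExact) {x : X}
    {U V : X.Opens} {m k : ℕ} {b : Fin m → Sec S.X₁ U} (hb : IsLocBasis b) (hxU : x ∈ U)
    {c : Fin k → Sec S.X₃ V} (hc : IsLocBasis c) (hxV : x ∈ V) :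
    ∃ (W : X.Opens) (d : Fin m ⊕ Fin k → Sec S.X₂ W), x ∈ W ∧ IsLocBasis d := by
  have := hS.epi_g
  obtain ⟨W, hWV, hxW, c', hc'⟩ := exists_lifts S.g
    (fun j => res _ (inf_le_right : U ⊓ V ≤ V) (c j)) (show x ∈ U ⊓ V from ⟨hxU, hxV⟩)
  refine ⟨W, _, hxW, isLocBasis_extension hS (hb.restrict (hWV.trans inf_le_left))
      (hc.restrict (hWV.trans inf_le_right)) c' (fun j => ?_)⟩
  rw [hc', res_res]

theorem isFinLocFreeOfRank_mid {S : ShortComplex X.Modules} (hS : S.ShortExact) {m k : ℕ}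
    (h₁ : FlatMod.IsFinLocFreeOfRank m S.X₁) (h₃ : FlatMod.IsFinLocFreeOfRank k S.X₃) :
    FlatMod.IsFinLocFreeOfRank (m + k) S.X₂ := by
  apply isFinLocFreeOfRank_of_exists
  intro x
  obtain ⟨U, hU, b, hb⟩ := (isFinLocFreeOfRank_iff _).mp h₁ x
  obtain ⟨V, hV, c, hc⟩ := (isFinLocFreeOfRank_iff _).mp h₃ x
  obtain ⟨W, d, hxW, hd⟩ := exists_basis_mid hS hb hU hc hV
  exact ⟨W, _, inferInstance, d, hxW, by simp, hd⟩

/-- The kernel of an epimorphism of finite locally free modules is finite locally free. -/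
theorem isFinLocFree_left {S : ShortComplex X.Modules} (hS : S.ShortExact)
    (h₂ : FlatMod.IsFinLocFree S.X₂) (h₃ : FlatMod.IsFinLocFree S.X₃) :
    FlatMod.IsFinLocFree S.X₁ := by
  have := hS.epi_g
  exact Dcoh.Spread.isFinLocFree_of_isLimit_kernelFork h₂ h₃ S.f S.g S.zero hS.fIsKernel

/-- The rank of a kernel. -/
theorem isFinLocFreeOfRank_left {S : ShortComplex X.Modules} (hS : S.ShortExact) {r m : ℕ}
    (h₂ : FlatMod.IsFinLocFreeOfRank (r + m) S.X₂) (h₃ : FlatMod.IsFinLocFreeOfRank m S.X₃) :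
    FlatMod.IsFinLocFreeOfRank r S.X₁ := by
  apply isFinLocFreeOfRank_of_forall
    (isFinLocFree_left hS (isFinLocFree_of_rank h₂) (isFinLocFree_of_rank h₃))
  intro x U k b hx hb
  obtain ⟨V, hV, c, hc⟩ := (isFinLocFreeOfRank_iff _).mp h₃ x
  obtain ⟨W, d, hxW, hd⟩ := exists_basis_mid hS hb hx hc hV
  obtain ⟨W', hW', e, he⟩ := (isFinLocFreeOfRank_iff _).mp h₂ x
  have := card_eq hd he x hxW hW'
  simp only [Fintype.card_sum, Fintype.card_fin] at this
  omega

/-- In a short exact sequence with terms of rank `n` and `m`, one has `m ≤ n` (at a point). -/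
theorem rank_le {S : ShortComplex X.Modules} (hS : S.ShortExact) {n m : ℕ}
    (h₂ : FlatMod.IsFinLocFreeOfRank n S.X₂) (h₃ : FlatMod.IsFinLocFreeOfRank m S.X₃) (x : X) :
    m ≤ n := by
  have h₁ := isFinLocFree_left hS (isFinLocFree_of_rank h₂) (isFinLocFree_of_rank h₃)
  obtain ⟨U, k, hx, b, hb⟩ := (isFinLocFree_iff _).mp h₁ x
  obtain ⟨V, hV, c, hc⟩ := (isFinLocFreeOfRank_iff _).mp h₃ x
  obtain ⟨W, d, hxW, hd⟩ := exists_basis_mid hS hb hx hc hV
  obtain ⟨W', hW', e, he⟩ := (isFinLocFreeOfRank_iff _).mp h₂ x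
  have := card_eq hd he x hxW hW'
  simp only [Fintype.card_sum, Fintype.card_fin] at this
  omega

/-- The kernel short complex of an epimorphism. -/
theorem shortExact_kernel {F G : X.Modules} (p : F ⟶ G) [Epi p] :
    (ShortComplex.mk (kernel.ι p) p (kernel.condition p)).ShortExact where
  exact := ShortComplex.exact_kernel p

theorem isFinLocFreeOfRank_kernel {F G : X.Modules} (p : F ⟶ G) [Epi p] {r m : ℕ}
    (hF : FlatMod.IsFinLocFreeOfRank (r + m) F) (hG : FlatMod.IsFinLocFreeOfRank m G) :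
    FlatMod.IsFinLocFreeOfRank r (kernel p) :=
  isFinLocFreeOfRank_left (shortExact_kernel p) hF hG

theorem isFinLocFreeOfRank_of_iso {M N : X.Modules} {n : ℕ} (e : M ≅ N)
    (h : FlatMod.IsFinLocFreeOfRank n M) : FlatMod.IsFinLocFreeOfRank n N := by
  rw [isFinLocFreeOfRank_iff] at h ⊢
  intro x
  obtain ⟨U, hx, b, hb⟩ := h x
  exact ⟨U, hx, _, hb.of_iso e⟩

theorem isFinLocFreeOfRank_tensor {M N : X.Modules} {m n : ℕ}
    (hM : FlatMod.IsFinLocFreeOfRank m M) (hN : FlatMod.IsFinLocFreeOfRank n N) :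
    FlatMod.IsFinLocFreeOfRank (m * n) (CohB1.tensorMod M N) := by
  apply isFinLocFreeOfRank_of_exists
  intro x
  obtain ⟨U, hxU, b, hb⟩ := (isFinLocFreeOfRank_iff _).mp hM x
  obtain ⟨V, hxV, c, hc⟩ := (isFinLocFreeOfRank_iff _).mp hN x
  exact ⟨U ⊓ V, Fin m × Fin n, inferInstance, _, ⟨hxU, hxV⟩, by simp,
    isLocBasis_tensor (hb.restrict inf_le_left) (hc.restrict inf_le_right)⟩

theorem isFinLocFreeOfRank_extPow {i n : ℕ} {E L : X.Modules}
    (hE : FlatMod.IsFinLocFreeOfRank n E) (hL : ExtPow.IsExtPow i E L) :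
    FlatMod.IsFinLocFreeOfRank (n.choose i) L := by
  obtain ⟨φ, hφ⟩ := hL
  apply isFinLocFreeOfRank_of_exists
  intro x
  obtain ⟨U, hxU, b, hb⟩ := (isFinLocFreeOfRank_iff _).mp hE x
  obtain ⟨_, ⟨W, rfl⟩, hxW, hW⟩ := Opens.isBasis_iff_nbhd.mp (affineBasis X) hxU
  refine ⟨W.1, Set.powersetCard (Fin n) i, inferInstance, _, hxW, ?_,
    isLocBasis_extPow φ hφ (U := W) (hb.restrict hW)⟩
  rw [← Nat.card_eq_fintype_card, Set.powersetCard.card, Nat.card_eq_fintype_card,
    Fintype.card_fin]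

end Groth.Agent.Krr.H487.KerRank
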