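import Groth.Agent.Krr.H487.Taut
import Groth.Agent.Krr.H495.ExtExist

/-!
# Unconditional forms: pull-back of exterior powers, pull-back commutes with λ-operations, tautological relation
-/

set_option autoImplicit false

open CategoryTheory CategoryTheory.Limits AlgebraicGeometry

universe v w u

namespace Groth.Agent.Krr.H487.PullExt

open KRR LambdaRing Groth.Agent.Krr.H482.LamAlg Groth.Agent.Krr.H487.KerRank
open Groth.Agent.Krr.H482.PullLambda (isFinLocFree_pullback commAt_pull' pullRingHom
  isFinLocFreeOfRank_pullback)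

/-- Pull-back commutes with exterior powers of finite locally free modules, for any morphism. -/
theorem isExtPow_pullback {X Y : Scheme.{u}} (f : Y ⟶ X) {i : ℕ} {E L : X.Modules}
    (hE : FlatMod.IsFinLocFree E) (hL : ExtPow.IsExtPow i E L) :
    ExtPow.IsExtPow i ((Scheme.Modules.pullback f).obj E) ((Scheme.Modules.pullback f).obj L) := by
  obtain ⟨L', -, hL'⟩ := Groth.Agent.Krr.H495.ExtExist.exists_isExtPow i _ (isFinLocFree_pullback f hE)
  exact Groth.Agent.Krr.H487.ExtPull.isExtPow_pullback f hE hL ⟨L', hL'⟩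

section Pull

variable {X Y : Scheme.{u}} {f : X ⟶ Y}
  {KX : Type v} [CommRing KX] [LambdaOps KX] {PX : PosStructure KX} {φX : SGA6.Kvb X →+ KX}
  {KY : Type w} [CommRing KY] [LambdaOps KY] {PY : PosStructure KY} {φY : SGA6.Kvb Y →+ KY}
  {q : KY →+ KX}

/-- `f^K` commutes with the λ-operations. -/
theorem commAt_pull (hKX : IsModel X KX PX φX) (hKY : IsModel Y KY PY φY) (hq : IsPull f φY φX q)
    (x : KY) : CommAt (pullRingHom hKX hKY hq) x :=
  commAt_pull' hKX hKY hq (fun i E hE => by
      obtain ⟨L, -, hL⟩ := Groth.Agent.Krr.H495.ExtExist.exists_isExtPow i E hE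
      exact ⟨L, hL⟩)
    (fun i E L hE hL => isExtPow_pullback f hE hL) x

theorem pull_lam (hKX : IsModel X KX PX φX) (hKY : IsModel Y KY PY φY) (hq : IsPull f φY φX q)
    (i : ℕ) (x : KY) : q (LambdaOps.lam i x) = LambdaOps.lam i (q x) :=
  commAt_pull hKX hKY hq x i

/-- The tautological relation for an invertible quotient `s : f^* E ⟶ L` of the pull-back of a bundle `E` of
rank `r + 1`. -/
theorem taut_relation (hKX : IsModel X KX PX φX) (hKY : IsModel Y KY PY φY)
    (hq : IsPull f φY φX q) {r : ℕ} {E : Y.Modules} (hE : FlatMod.IsFinLocFreeOfRank (r + 1) E)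
    {L : X.Modules} (hL : FlatMod.IsFinLocFreeOfRank 1 L)
    (s : (Scheme.Modules.pullback f).obj E ⟶ L) (hs : Epi s) :
    ∑ i ∈ Finset.range (r + 2), (-1 : KX) ^ i * q (LambdaOps.lam i (φY (cl Y E))) *
      φX (cl X L) ^ (r + 1 - i) = 0 := by
  simp only [pull_lam hKX hKY hq, hq E (isFinLocFree_of_rank hE)]
  exact Groth.Agent.Krr.H487.Taut.quot_relation hKX (isFinLocFreeOfRank_pullback f hE) hL s

end Pull

end Groth.Agent.Krr.H487.PullExt
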