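import Groth.Agent.Krr.H487.LocBasisPull
import Groth.Agent.Sga67.ExtSheaf

/-!
# Pull-back of exterior powers

* `exists_glue`: gluing of sections given on the affine opens contained in an open;
* `isExtPow_of_iso`: transport of `IsExtPow` along isomorphisms;
* `nonempty_pullback_iso`: for `f : Y ⟶ X`, `E` finite locally free on `X`, `IsExtPow i E L` and `IsExtPow i (f^* E) L'`
  one has `f^* L ≅ L'`;
* `isExtPow_pullback`: hence `IsExtPow i (f^* E) (f^* L)` as soon as an exterior power of `f^* E` exists.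
-/

set_option autoImplicit false
universe u

open CategoryTheory CategoryTheory.Limits AlgebraicGeometry Opposite TopologicalSpace
open scoped TensorProduct

namespace Groth.Agent.Krr.H487.ExtPull

open Groth.Agent.Sga67.Sec Groth.Agent.Sga67.LocBasis Groth.Agent.Sga67.ExtSheaf
open Groth.Agent.Krr.H487.LocBasisPull

variable {X Y : Scheme.{u}}

/-- Two sections agreeing on all affine opens are equal. -/
theorem eq_of_affine (N : X.Modules) {W : X.Opens} {s t : Sec N W}
    (H : ∀ (V : X.affineOpens) (h : V.1 ≤ W), res N h s = res N h t) : s = t := by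
  apply eq_of_locally
  intro x hx
  obtain ⟨_, ⟨V, rfl⟩, hxV, hV⟩ := Opens.isBasis_iff_nbhd.mp (affineBasis X) hx
  exact ⟨V.1, hV, hxV, H V hV⟩

/-- Gluing of sections over the affine opens contained in `W`. -/
theorem exists_glue (N : X.Modules) (W : X.Opens) (s : ∀ V : X.affineOpens, V.1 ≤ W → Sec N V.1)
    (hs : ∀ (V V' : X.affineOpens) (h : V.1 ≤ W) (h' : V'.1 ≤ V.1),
      res N h' (s V h) = s V' (h'.trans h)) :
    ∃ t : Sec N W, ∀ (V : X.affineOpens) (h : V.1 ≤ W), res N h t = s V h := by
  let ι := {V : X.affineOpens // V.1 ≤ W}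
  obtain ⟨t, ht, -⟩ := TopCat.Sheaf.existsUnique_gluing' ⟨N.presheaf, N.isSheaf⟩
    (fun V : ι => V.1.1) W (fun V => homOfLE V.2) (by
      intro x hx
      obtain ⟨_, ⟨V, rfl⟩, hxV, hV⟩ := Opens.isBasis_iff_nbhd.mp (affineBasis X) hx
      exact Opens.mem_iSup.mpr ⟨⟨V, hV⟩, hxV⟩) (fun V => s V.1 V.2)
    (by
      intro V V'
      change res N (inf_le_left : V.1.1 ⊓ V'.1.1 ≤ V.1.1) (s V.1 V.2) =
        res N (inf_le_right : V.1.1 ⊓ V'.1.1 ≤ V'.1.1) (s V'.1 V'.2)
      apply eq_of_affine
      intro V'' h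
      rw [res_res, res_res, hs, hs])
  exact ⟨t, fun V h => ht ⟨V, h⟩⟩

theorem isExtPow_of_iso {i : ℕ} {E L L' : X.Modules} (h : ExtPow.IsExtPow i E L) (e : L ≅ L') :
    ExtPow.IsExtPow i E L' := by
  obtain ⟨φ, hφ⟩ := exists_phi h
  let ε : ∀ U : X.affineOpens, Sec L' U.1 ≃ₗ[Γ(X, U.1)] Sec L U.1 := fun U =>
    { (appS e.inv U.1) with
      invFun := appS e.hom U.1
      left_inv := fun s => by simp
      right_inv := fun s => by simp }
  refine ⟨fun U => (ε U).trans (φ U), ?_⟩
  intro U V h e'
  have h1 := hφ U V h e'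
  have h2 := appS_res e.hom h ((φ U).symm (exteriorPower.ιMulti _ i e'))
  rw [h1] at h2
  exact h2.symm

section

variable (f : Y ⟶ X)

/-- The pull-back of a wedge of sections, as an alternating map. -/
theorem exists_alt {i : ℕ} {E : X.Modules} {L' : Y.Modules}
    (φ' : Phi i ((Scheme.Modules.pullback f).obj E) L') (hφ' : PhiComp φ') (U : X.Opens) :
    ∃ w : (Sec E U) [⋀^Fin i]→ₗ[Γ(X, U)] (Sec ((Scheme.Modules.pushforward f).obj L') U),
      ∀ (e : Fin i → Sec E U) (V : Y.affineOpens) (h : V.1 ≤ f ⁻¹ᵁ U),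
        res L' h (show Sec L' (f ⁻¹ᵁ U) from w e) =
          (φ' V).symm (exteriorPower.ιMulti _ i (fun j => res _ h (pbS f E (e j)))) := by
  have key : ∀ e : Fin i → Sec E U, ∃ t : Sec L' (f ⁻¹ᵁ U), ∀ (V : Y.affineOpens) (h : V.1 ≤ f ⁻¹ᵁ U),
      res L' h t = (φ' V).symm (exteriorPower.ιMulti _ i (fun j => res _ h (pbS f E (e j)))) := by
    intro e
    apply exists_glue
    intro V V' h h'
    refine (hφ' V V' h' _).trans ?_
    simp only [res_res]
  choose t ht using key
  refine ⟨{
    toFun := fun e => t e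
    map_update_add' := ?_
    map_update_smul' := ?_
    map_eq_zero_of_eq' := ?_ }, fun e V h => ht e V h⟩
  · intro _ e j x y
    change t _ = t _ + t _
    apply eq_of_affine
    intro V h
    rw [map_add, ht, ht, ht]
    have hu : ∀ z, (fun k => res _ h (pbS f E (Function.update e j z k))) =
        Function.update (fun k => res _ h (pbS f E (e k))) j (res _ h (pbS f E z)) := by
      intro z
      exact Function.comp_update (fun z => res _ h (pbS f E z)) e j z
    rw [hu, hu, hu, map_add, map_add, AlternatingMap.map_update_add, map_add]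
  · intro _ e j c x
    change t _ = (f.app U c : Γ(Y, f ⁻¹ᵁ U)) • t _
    apply eq_of_affine
    intro V h
    rw [res_smul, ht, ht]
    have hu : ∀ z, (fun k => res _ h (pbS f E (Function.update e j z k))) =
        Function.update (fun k => res _ h (pbS f E (e k))) j (res _ h (pbS f E z)) := by
      intro z
      exact Function.comp_update (fun z => res _ h (pbS f E z)) e j z
    rw [hu, hu, pbS_smul, res_smul, AlternatingMap.map_update_smul, map_smul]
  · intro e a b hab hne
    change t _ = 0
    apply eq_of_affine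
    intro V h
    rw [map_zero, ht, AlternatingMap.map_eq_zero_of_eq _ _ _ hne, map_zero]
    rw [hab]

/-- The comparison morphism `L ⟶ f_* L'`. -/
theorem exists_hom {i : ℕ} {E L : X.Modules} {L' : Y.Modules} (φ : Phi i E L) (hφ : PhiComp φ)
    (φ' : Phi i ((Scheme.Modules.pullback f).obj E) L') (hφ' : PhiComp φ') :
    ∃ g : L ⟶ (Scheme.Modules.pushforward f).obj L',
      ∀ (U : X.affineOpens) (e : Fin i → Sec E U.1) (V : Y.affineOpens) (h : V.1 ≤ f ⁻¹ᵁ U.1),
        res L' h (show Sec L' (f ⁻¹ᵁ U.1) from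
          appS g U.1 ((φ U).symm (exteriorPower.ιMulti _ i e))) =
          (φ' V).symm (exteriorPower.ιMulti _ i (fun j => res _ h (pbS f E (e j)))) := by
  choose w hw using fun U : X.Opens => exists_alt f φ' hφ' U
  obtain ⟨g, hg⟩ := exists_hom_of_basis' (affineBasis X) L ((Scheme.Modules.pushforward f).obj L')
    (fun U => (exteriorPower.alternatingMapLinearEquiv (w U.1)) ∘ₗ (φ U).toLinearMap)
    (by
      intro U V h s
      refine phi_induction φ U (C := fun s =>
        ((exteriorPower.alternatingMapLinearEquiv (w V.1)) ∘ₗ (φ V).toLinearMap) (res L h s) =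
        res ((Scheme.Modules.pushforward f).obj L') h
          (((exteriorPower.alternatingMapLinearEquiv (w U.1)) ∘ₗ (φ U).toLinearMap) s)) ?_ ?_ ?_ ?_ s
      · simp only [map_zero]
      · intro x y hx hy
        rw [map_add, map_add, hx, hy, map_add, map_add]
      · intro a x hx
        rw [res_smul, map_smul, map_smul, hx, res_smul]
      · intro e
        rw [hφ U V h e]
        simp only [LinearMap.comp_apply, LinearEquiv.coe_coe, LinearEquiv.apply_symm_apply,
          exteriorPower.alternatingMapLinearEquiv_apply_ιMulti]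
        change (show Sec L' (f ⁻¹ᵁ V.1) from w V.1 (fun j => res E h (e j))) =
          res L' (Scheme.Hom.preimage_mono f h) (show Sec L' (f ⁻¹ᵁ U.1) from w U.1 e)
        apply eq_of_affine
        intro W hW
        rw [res_res, hw, hw]
        congr 2
        funext j
        rw [← res_pbS f E h (Scheme.Hom.preimage_mono f h), res_res])
  refine ⟨g, fun U e V h => ?_⟩
  rw [hg U]
  simp only [LinearMap.comp_apply, LinearEquiv.coe_coe, LinearEquiv.apply_symm_apply,
    exteriorPower.alternatingMapLinearEquiv_apply_ιMulti]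
  exact hw U.1 e V h

/-- A morphism mapping a local basis to a local basis is bijective on sections. -/
theorem bijective_of_locBasis {M N : X.Modules} (g : M ⟶ N) {U : X.Opens} {κ : Type*} [Fintype κ]
    {b : κ → Sec M U} (hb : IsLocBasis b) {c : κ → Sec N U} (hc : IsLocBasis c)
    (h : ∀ k, appS g U (b k) = c k) {V : X.Opens} (hV : V ≤ U) : Function.Bijective (appS g V) := by
  have h1 : (appS g V) ∘ (comb b hV) = (comb c hV : (κ → Γ(X, V)) → Sec N V) := by
    funext a
    rw [Function.comp_apply, comb_apply, comb_apply, map_sum]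
    refine Finset.sum_congr rfl fun k _ => ?_
    rw [map_smul, appS_res, h]
  have h2 : Function.Bijective ((appS g V) ∘ (comb b hV)) := by
    rw [h1]
    exact hc V hV
  exact (Function.Bijective.of_comp_iff _ (hb V hV)).mp h2

/-- The pull-back of an exterior power is isomorphic to the exterior power of the pull-back. -/
theorem nonempty_pullback_iso {i : ℕ} {E L : X.Modules} (hE : FlatMod.IsFinLocFree E)
    (hL : ExtPow.IsExtPow i E L) {L' : Y.Modules}
    (hL' : ExtPow.IsExtPow i ((Scheme.Modules.pullback f).obj E) L') :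
    Nonempty ((Scheme.Modules.pullback f).obj L ≅ L') := by
  obtain ⟨φ, hφ⟩ := exists_phi hL
  obtain ⟨φ', hφ'⟩ := exists_phi hL'
  obtain ⟨g, hg⟩ := exists_hom f φ hφ φ' hφ'
  have : IsIso (adj f g) := isIso_of_bijective _ (by
    intro y W hyW
    obtain ⟨U₀, n, hxU₀, b₀, hb₀⟩ := (isFinLocFree_iff _).mp hE (f y)
    obtain ⟨_, ⟨U, rfl⟩, hxU, hU⟩ := Opens.isBasis_iff_nbhd.mp (affineBasis X) hxU₀
    have hb := hb₀.restrict hU
    set b := fun k => res E hU (b₀ k) with hbdef
    have hyU : y ∈ W ⊓ f ⁻¹ᵁ U.1 := ⟨hyW, hxU⟩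
    obtain ⟨_, ⟨V, rfl⟩, hyV, hV⟩ := Opens.isBasis_iff_nbhd.mp (affineBasis Y) hyU
    have hVU : V.1 ≤ f ⁻¹ᵁ U.1 := hV.trans inf_le_right
    refine ⟨V.1, hV.trans inf_le_left, hyV, ?_⟩
    -- the local basis of `f^* L`
    have h1 := (isLocBasis_pbS f (isLocBasis_extPow (U := U) φ hφ hb)).restrict hVU
    -- the local basis of `L'`
    have h2 := isLocBasis_extPow (U := V) φ' hφ' ((isLocBasis_pbS f hb).restrict hVU)
    refine bijective_of_locBasis (adj f g) h1 h2 (fun I => ?_) le_rfl
    rw [appS_res, adj_pbS]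
    exact hg U _ V hVU)
  exact ⟨asIso (adj f g)⟩

/-- Pull-back commutes with exterior powers of finite locally free modules. -/
theorem isExtPow_pullback {i : ℕ} {E L : X.Modules} (hE : FlatMod.IsFinLocFree E)
    (hL : ExtPow.IsExtPow i E L)
    (hex : ∃ L' : Y.Modules, ExtPow.IsExtPow i ((Scheme.Modules.pullback f).obj E) L') :
    ExtPow.IsExtPow i ((Scheme.Modules.pullback f).obj E) ((Scheme.Modules.pullback f).obj L) := by
  obtain ⟨L', hL'⟩ := hex
  obtain ⟨e⟩ := nonempty_pullback_iso f hE hL hL'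
  exact isExtPow_of_iso hL' e.symm

end

end Groth.Agent.Krr.H487.ExtPull
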