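import Groth.Agent.Krr.H482.PullLambda
import Groth.Agent.Krr.H487.ExtPull
import Groth.Agent.Krr.H487.KerRank

/-!
# The tautological relation of an invertible quotient

* `lam_add_line`, `sum_lam_line`: λ-algebra: if `λ^i(ℓ) = 0` for `i ≥ 2` and `λ^i(h) = 0` for `i > r`, then
  `Σ_{i ≤ r+1} (-1)^i λ^i(h + ℓ) ℓ^{r+1-i} = 0`;
* `lam_cl_eq_zero`: `λ^i([E]) = 0` for `i > rank E` (including rank `0`);
* `cl_ses`: `[E] = [E'] + [E'']` in a model;
* `quot_relation`: for an epimorphism `E → L` with `E` of rank `r + 1` and `L` invertible the relation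
  `Σ (-1)^i λ^i([E]) [L]^{r+1-i} = 0` holds.
-/

set_option autoImplicit false

open CategoryTheory CategoryTheory.Limits AlgebraicGeometry

universe v w u

namespace Groth.Agent.Krr.H487.Taut

open KRR LambdaRing Groth.Agent.Krr.H482.LamAlg Groth.Agent.Krr.H487.KerRank
open Groth.Agent.Krr.H482.PullLambda (isFinLocFree_pullback)

section Alg

variable {K : Type v} [CommRing K] [LambdaOps K]

theorem lamSeries_zero : lamSeries (0 : K) = 1 := by
  have h1 : lamSeries (0 : K) = lamSeries (0 : K) * lamSeries (0 : K) := by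
    rw [← lamSeries_add, add_zero]
  exact ((isUnit_lamSeries (0 : K)).mul_left_cancel (by rw [← h1, mul_one])).symm

theorem lam_zero_arg (i : ℕ) (hi : 0 < i) : LambdaOps.lam i (0 : K) = 0 := by
  have h := congrArg (PowerSeries.coeff i) (lamSeries_zero (K := K))
  rw [lamSeries, PowerSeries.coeff_mk, PowerSeries.coeff_one, if_neg hi.ne'] at h
  exact h

/-- `λ^{k+1}(h + ℓ) = λ^{k+1}(h) + λ^k(h) ℓ` for `ℓ` with `λ^i(ℓ) = 0`, `i ≥ 2`. -/
theorem lam_add_line (h l : K) (hl : ∀ i : ℕ, 1 < i → LambdaOps.lam i l = 0) (k : ℕ) :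
    LambdaOps.lam (k + 1) (h + l) = LambdaOps.lam (k + 1) h + LambdaOps.lam k h * l := by
  rw [LambdaOps.lam_add, Finset.sum_range_succ, Finset.sum_range_succ, Nat.sub_self,
    LambdaOps.lam_zero, mul_one, show k + 1 - k = 1 by omega, LambdaOps.lam_one,
    Finset.sum_eq_zero, zero_add, add_comm]
  intro i hi
  rw [Finset.mem_range] at hi
  rw [hl (k + 1 - i) (by omega), mul_zero]

theorem sum_lam_line_aux (h l : K) (hl : ∀ i : ℕ, 1 < i → LambdaOps.lam i l = 0) (r n : ℕ)
    (hn : n ≤ r) :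
    ∑ i ∈ Finset.range (n + 1), (-1 : K) ^ i * LambdaOps.lam i (h + l) * l ^ (r - i) =
      (-1 : K) ^ n * LambdaOps.lam n h * l ^ (r - n) := by
  induction n with
  | zero => simp [LambdaOps.lam_zero]
  | succ n ih =>
    rw [Finset.sum_range_succ, ih (by omega), lam_add_line h l hl n,
      show r - n = (r - (n + 1)) + 1 by omega]
    ring

/-- The relation for `h + ℓ`. -/
theorem sum_lam_line (h l : K) (hl : ∀ i : ℕ, 1 < i → LambdaOps.lam i l = 0) (r : ℕ)
    (hh : LambdaOps.lam (r + 1) h = 0) :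
    ∑ i ∈ Finset.range (r + 2), (-1 : K) ^ i * LambdaOps.lam i (h + l) * l ^ (r + 1 - i) = 0 := by
  rw [sum_lam_line_aux h l hl (r + 1) (r + 1) le_rfl, hh]
  ring

end Alg

section Model

variable {X : Scheme.{u}} {K : Type v} [CommRing K] [LambdaOps K]
  {P : PosStructure K} {φ : SGA6.Kvb X →+ K}

omit [LambdaOps K] in
/-- Additivity of classes in short exact sequences of finite locally free modules. -/
theorem cl_ses {S : ShortComplex X.Modules} (hS : S.ShortExact)
    (h₁ : FlatMod.IsFinLocFree S.X₁) (h₂ : FlatMod.IsFinLocFree S.X₂)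
    (h₃ : FlatMod.IsFinLocFree S.X₃) : φ (cl X S.X₂) = φ (cl X S.X₁) + φ (cl X S.X₃) := by
  rw [← map_add]
  exact congrArg φ (Groth.Agent.Sga67.KvbRing.c_ses hS h₁ h₂ h₃)

/-- A module of rank `0` is zero. -/
theorem isZero_of_rank_zero {M : X.Modules} (hM : FlatMod.IsFinLocFreeOfRank 0 M) : IsZero M := by
  rw [isFinLocFreeOfRank_iff] at hM
  rw [IsZero.iff_id_eq_zero]
  apply Groth.Agent.Sga67.Sec.hom_ext_of_locally
  intro x U hx
  obtain ⟨V, hV, b, hb⟩ := hM x
  refine ⟨U ⊓ V, inf_le_left, ⟨hx, hV⟩, fun s => ?_⟩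
  obtain ⟨a, rfl⟩ := (hb (U ⊓ V) inf_le_right).2 s
  rw [Subsingleton.elim a 0, map_zero, map_zero, map_zero]

/-- `λ^i [E] = 0` for `i` greater than the rank of `E`. -/
theorem lam_cl_eq_zero (hK : IsModel X K P φ) {n : ℕ} {E : X.Modules}
    (hE : FlatMod.IsFinLocFreeOfRank n E) {i : ℕ} (hi : n < i) :
    LambdaOps.lam i (φ (cl X E)) = 0 := by
  rcases Nat.eq_zero_or_pos n with rfl | hn
  · have h0 : cl X E = 0 :=
      Groth.Agent.Sga67.SesImage.clSub_zero (vbP X) (isZero_of_rank_zero hE)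
    rw [h0, map_zero]
    exact lam_zero_arg i hi
  · refine P.lam_eq_zero _ ((hK.mem_pos_iff _).mpr ⟨n, E, hn, hE, rfl⟩) i ?_
    rw [hK.aug_cl n E hE]
    exact_mod_cast hi

/-- The relation attached to an invertible quotient of a bundle of rank `r + 1`. -/
theorem quot_relation (hK : IsModel X K P φ) {r : ℕ} {E L : X.Modules}
    (hE : FlatMod.IsFinLocFreeOfRank (r + 1) E) (hL : FlatMod.IsFinLocFreeOfRank 1 L)
    (q : E ⟶ L) [Epi q] :
    ∑ i ∈ Finset.range (r + 2), (-1 : K) ^ i * LambdaOps.lam i (φ (cl X E)) *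
      φ (cl X L) ^ (r + 1 - i) = 0 := by
  have hH := isFinLocFreeOfRank_kernel q hE hL
  rw [cl_ses (φ := φ) (shortExact_kernel q) (isFinLocFree_of_rank hH) (isFinLocFree_of_rank hE)
    (isFinLocFree_of_rank hL)]
  exact sum_lam_line _ _ (fun i hi => lam_cl_eq_zero hK hL hi) r
    (lam_cl_eq_zero hK hH (Nat.lt_succ_self r))

end Model

section Pull

variable {X Y : Scheme.{u}} {f : X ⟶ Y}
  {KX : Type v} [CommRing KX] [LambdaOps KX] {PX : PosStructure KX} {φX : SGA6.Kvb X →+ KX}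
  {KY : Type w} [CommRing KY] [LambdaOps KY] {PY : PosStructure KY} {φY : SGA6.Kvb Y →+ KY}
  {q : KY →+ KX}

/-- `f^K λ^i [E] = λ^i [f^* E]`, given exterior powers of `E` and of `f^* E`. -/
theorem pull_lam_cl (hKX : IsModel X KX PX φX) (hKY : IsModel Y KY PY φY) (hq : IsPull f φY φX q)
    {E : Y.Modules} (hE : FlatMod.IsFinLocFree E) (i : ℕ)
    (hex : ∃ L : Y.Modules, ExtPow.IsExtPow i E L)
    (hex' : ∃ L : X.Modules, ExtPow.IsExtPow i ((Scheme.Modules.pullback f).obj E) L) :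
    q (LambdaOps.lam i (φY (cl Y E))) = LambdaOps.lam i (φX (cl X ((Scheme.Modules.pullback f).obj E))) := by
  obtain ⟨L, hL⟩ := hex
  have hL' : FlatMod.IsFinLocFree L := Groth.Agent.Sga67.LocBasis.isFinLocFree_of_isExtPow hE hL
  rw [hKY.map_lam i E L hE hL' hL, hq L hL',
    hKX.map_lam i _ _ (isFinLocFree_pullback f hE) (isFinLocFree_pullback f hL')
      (Groth.Agent.Krr.H487.ExtPull.isExtPow_pullback f hE hL hex')]

end Pull

end Groth.Agent.Krr.H487.Taut
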